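import Mathlib
import Cfsg.Agent.Lib.Helper70.OPar.Defs
import Cfsg.Agent.Lib.Helper36.AltEven

/-!
# OPAR (S5989): linear algebra for the unipotent derangements

For an isometry `x` of odd order of a nondegenerate quadratic form (characteristic `≠ 2`) with
`ker (x - 1) ≤ range (x - 1)` and `range ((x - 1)²) ≤ S`, every invariant nondegenerate subspace
`W` has `dim W + s ≡ 0 (mod 4)` for some `s ≤ dim S`.
-/

set_option autoImplicit false
set_option linter.style.haveILetI false
open scoped MatrixGroups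
open Matrix

namespace Cfsg.Agent.Lib.Helper94.OPar

open Cfsg.Agent.Lib.Helper23.OHyp Cfsg.Agent.Lib.Helper70.OPar

universe u

/-- Rank-nullity for the restriction of an endomorphism to a subspace. -/
theorem finrank_map_add_inf_ker {K V : Type*} [Field K] [AddCommGroup V] [Module K V]
    [FiniteDimensional K V] (f : V →ₗ[K] V) (p : Submodule K V) :
    Module.finrank K ↥(p.map f) + Module.finrank K ↥(p ⊓ LinearMap.ker f) =
      Module.finrank K ↥p := by
  have h := LinearMap.finrank_range_add_finrank_ker (f.domRestrict p)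
  have hr : LinearMap.range (f.domRestrict p) = p.map f := by
    ext y
    simp only [LinearMap.mem_range, Submodule.mem_map, LinearMap.domRestrict_apply,
      Subtype.exists]
    constructor
    · rintro ⟨a, ha, rfl⟩; exact ⟨a, ha, rfl⟩
    · rintro ⟨a, ha, rfl⟩; exact ⟨a, ha, rfl⟩
  have he : (LinearMap.ker (f.domRestrict p)).map p.subtype = p ⊓ LinearMap.ker f := by
    ext y
    simp only [Submodule.mem_map, LinearMap.mem_ker, LinearMap.domRestrict_apply,
      Submodule.subtype_apply, Submodule.mem_inf, Subtype.exists]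
    constructor
    · rintro ⟨a, ha, h0, rfl⟩; exact ⟨ha, h0⟩
    · rintro ⟨hy, h0⟩; exact ⟨y, hy, h0, rfl⟩
  rw [hr, ← Submodule.finrank_map_subtype_eq p (LinearMap.ker (f.domRestrict p)), he] at h
  exact h

section main

variable {F : Type u} [Field F] {ι : Type} [Fintype ι] [DecidableEq ι]

/-- The key congruence. -/
theorem uni_mod_four (Q : (ι → F) → F) (hQ : Cfsg.Geo.IsNondegenerateQuadraticForm Q)
    (h2 : (2 : F) ≠ 0) (hPerp : PkgPerp.{u}) (x : Matrix ι ι F)
    (hisom : ∀ v, Q (x *ᵥ v) = Q v) (hdet : IsUnit x.det) (p : ℕ) (hp : Odd p) (hxp : x ^ p = 1)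
    (hker : ∀ v : ι → F, (x - 1) *ᵥ v = 0 → ∃ u, (x - 1) *ᵥ u = v)
    (S : Submodule F (ι → F)) (hS : ∀ v, (x - 1) *ᵥ ((x - 1) *ᵥ v) ∈ S)
    (W : Submodule F (ι → F)) (hW : Inv x W) (hNd : Nd Q W) :
    ∃ s k : ℕ, s ≤ Module.finrank F ↥S ∧ Module.finrank F ↥W + s = 4 * k := by
  classical
  have hB := hQ.polar_bilinear
  have hsymm : ∀ u v, QuadraticMap.polar Q u v = QuadraticMap.polar Q v u :=
    fun u v => QuadraticMap.polar_comm Q u v
  have hBx : ∀ u v, QuadraticMap.polar Q (x *ᵥ u) (x *ᵥ v) = QuadraticMap.polar Q u v := by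
    intro u v
    unfold QuadraticMap.polar
    rw [← Matrix.mulVec_add, hisom, hisom, hisom]
  have hsubr : ∀ v a b, QuadraticMap.polar Q v (a - b) =
      QuadraticMap.polar Q v a - QuadraticMap.polar Q v b := by
    intro v a b
    rw [sub_eq_add_neg, ← neg_one_smul F b, hB.add_right, hB.smul_right]
    ring
  have hsubl : ∀ v a b, QuadraticMap.polar Q (a - b) v =
      QuadraticMap.polar Q a v - QuadraticMap.polar Q b v := by
    intro v a b
    rw [hsymm, hsubr, hsymm v a, hsymm v b]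
  have hxinj : ∀ a b : ι → F, x *ᵥ a = x *ᵥ b → a = b := by
    intro a b hab
    have h1 := congrArg (fun v => x⁻¹ *ᵥ v) hab
    simp only [Matrix.mulVec_mulVec, Matrix.nonsing_inv_mul x hdet, Matrix.one_mulVec] at h1
    exact h1
  have hWinv : ∀ w ∈ W, x *ᵥ w ∈ W := by
    intro w hw
    have h1 : Matrix.toLin' x w ∈ W := hW (Submodule.mem_map.2 ⟨w, hw, rfl⟩)
    rwa [Matrix.toLin'_apply] at h1
  -- `x` is surjective on `W`
  have hWsurj : ∀ w ∈ W, ∃ w' ∈ W, x *ᵥ w' = w := by
    let f : W →ₗ[F] W := (Matrix.toLin' x).restrict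
      (fun w hw => by rw [Matrix.toLin'_apply]; exact hWinv w hw)
    have hf : Function.Injective f := by
      intro a b hab
      apply Subtype.ext
      apply hxinj
      have := congrArg Subtype.val hab
      simpa [f, LinearMap.restrict_apply, Matrix.toLin'_apply] using this
    have hs := LinearMap.injective_iff_surjective.mp hf
    intro w hw
    obtain ⟨w', hw'⟩ := hs ⟨w, hw⟩
    refine ⟨w'.1, w'.2, ?_⟩
    have := congrArg Subtype.val hw'
    simpa [f, LinearMap.restrict_apply, Matrix.toLin'_apply] using this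
  -- `x + 1` is injective
  have hx1 : ∀ v : ι → F, x *ᵥ v + v = 0 → v = 0 := by
    intro v hv
    have hxv : x *ᵥ v = -v := eq_neg_of_add_eq_zero_left hv
    have hpow : ∀ k : ℕ, (x ^ k) *ᵥ v = (-1 : F) ^ k • v := by
      intro k
      induction k with
      | zero => simp
      | succ k ih =>
        rw [pow_succ, ← Matrix.mulVec_mulVec, hxv, Matrix.mulVec_neg, ih, pow_succ]
        simp
    have h3 := hpow p
    rw [hxp, Matrix.one_mulVec, hp.neg_one_pow, neg_one_smul] at h3
    have h4 : (2 : F) • v = 0 := by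
      rw [two_smul]
      nth_rewrite 1 [h3]
      exact neg_add_cancel v
    rcases smul_eq_zero.mp h4 with h | h
    · exact absurd h h2
    · exact h
  -- the endomorphism `T = x - 1`
  set T : (ι → F) →ₗ[F] (ι → F) := (x - 1).mulVecLin with hT
  have hTapp : ∀ v, T v = x *ᵥ v - v := by
    intro v
    rw [hT, Matrix.mulVecLin_apply, Matrix.sub_mulVec, Matrix.one_mulVec]
  have hTW : ∀ w ∈ W, T w ∈ W := fun w hw => by
    rw [hTapp]; exact W.sub_mem (hWinv w hw) hw
  -- the invariant complement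
  have hNdtop : Nd Q (⊤ : Submodule F (ι → F)) := by
    intro w _ hw0
    obtain ⟨⟨y, hy⟩, ⟨z, hz⟩⟩ := hQ.nondegenerate w hw0
    exact ⟨⟨y, Submodule.mem_top, hy⟩, ⟨z, Submodule.mem_top, hz⟩⟩
  obtain ⟨W', -, hW'inv, -, hperp, hsup, -⟩ :=
    hPerp F ι Q hQ x hisom hdet ⊤ W le_top le_top hW hNdtop hNd
  have hW'inv' : ∀ w ∈ W', x *ᵥ w ∈ W' := by
    intro w hw
    have h1 : Matrix.toLin' x w ∈ W' := hW'inv (Submodule.mem_map.2 ⟨w, hw, rfl⟩)
    rwa [Matrix.toLin'_apply] at h1
  have hTW' : ∀ w ∈ W', T w ∈ W' := fun w hw => by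
    rw [hTapp]; exact W'.sub_mem (hW'inv' w hw) hw
  have hzero : ∀ z ∈ W, (∀ y ∈ W, QuadraticMap.polar Q y z = 0) → z = 0 := by
    intro z hz hyz
    by_contra hz0
    obtain ⟨⟨y, hy, hne⟩, -⟩ := hNd z hz hz0
    exact hne (hyz y hy)
  have hdisj : ∀ z, z ∈ W → z ∈ W' → z = 0 := by
    intro z hz hz'
    exact hzero z hz (fun y hy => hperp y hy z hz')
  -- kernel inside the image, on `W`
  have hkerW : ∀ w ∈ W, T w = 0 → ∃ u ∈ W, T u = w := by
    intro w hw hTw
    obtain ⟨v, hv⟩ := hker w (by rw [← Matrix.mulVecLin_apply]; exact hTw)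
    have hvtop : v ∈ W ⊔ W' := by rw [hsup]; exact Submodule.mem_top
    obtain ⟨a, ha, a', ha', rfl⟩ := Submodule.mem_sup.mp hvtop
    refine ⟨a, ha, ?_⟩
    have hv' : T a + T a' = w := by
      rw [← map_add, hT, Matrix.mulVecLin_apply]; exact hv
    have h1 : T a' ∈ W := by
      have : T a' = w - T a := by rw [← hv']; abel
      rw [this]; exact W.sub_mem hw (hTW a ha)
    have h2 : T a' = 0 := hdisj _ h1 (hTW' a' ha')
    rw [h2, add_zero] at hv'
    exact hv'
  -- dimensions
  have e1 := finrank_map_add_inf_ker T W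
  have e2 := finrank_map_add_inf_ker T (W.map T)
  have hmapW : W.map T ≤ W := by
    rintro _ ⟨w, hw, rfl⟩
    exact hTW w hw
  have e3 : W.map T ⊓ LinearMap.ker T = W ⊓ LinearMap.ker T := by
    apply le_antisymm
    · exact inf_le_inf_right _ hmapW
    · rintro z ⟨hzW, hzk⟩
      obtain ⟨u, hu, rfl⟩ := hkerW z hzW hzk
      exact ⟨Submodule.mem_map_of_mem hu, hzk⟩
  rw [e3] at e2
  have e4 : Module.finrank F ↥((W.map T).map T) ≤ Module.finrank F ↥S := by
    refine Submodule.finrank_mono ?_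
    rintro _ ⟨_, ⟨w, -, rfl⟩, rfl⟩
    rw [hT, Matrix.mulVecLin_apply, Matrix.mulVecLin_apply]
    exact hS w
  -- the alternating form on `W`
  let Bδ : LinearMap.BilinForm F ↥W := LinearMap.mk₂ F
    (fun u v => QuadraticMap.polar Q (x *ᵥ (u : ι → F)) (v : ι → F) -
      QuadraticMap.polar Q (u : ι → F) (x *ᵥ (v : ι → F)))
    (by intro a b c; simp only [Submodule.coe_add, Matrix.mulVec_add, hB.add_left]; ring)
    (by intro c a b
        simp only [Submodule.coe_smul, Matrix.mulVec_smul, hB.smul_left, smul_eq_mul]; ring)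
    (by intro a b c; simp only [Submodule.coe_add, Matrix.mulVec_add, hB.add_right]; ring)
    (by intro c a b
        simp only [Submodule.coe_smul, Matrix.mulVec_smul, hB.smul_right, smul_eq_mul]; ring)
  have hBδ : ∀ u v : W, Bδ u v = QuadraticMap.polar Q (x *ᵥ (u : ι → F)) (v : ι → F) -
      QuadraticMap.polar Q (u : ι → F) (x *ᵥ (v : ι → F)) := fun u v => rfl
  have hAlt : Bδ.IsAlt := by
    intro u
    rw [hBδ, hsymm, sub_self]
  obtain ⟨k, hk⟩ := Cfsg.Agent.Lib.Helper36.alt_finrank_aux F (Module.finrank F ↥W) ↥W Bδ hAlt rfl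
  have e5 : (LinearMap.ker Bδ).map W.subtype = W ⊓ LinearMap.ker T := by
    ext y
    simp only [Submodule.mem_map, LinearMap.mem_ker, Submodule.subtype_apply, Submodule.mem_inf,
      Subtype.exists]
    constructor
    · rintro ⟨a, ha, h0, rfl⟩
      refine ⟨ha, ?_⟩
      -- `z = x (x a) - a` is orthogonal to `W`
      have hz : x *ᵥ (x *ᵥ a) - a = 0 := by
        apply hzero _ (W.sub_mem (hWinv _ (hWinv a ha)) ha)
        intro y hy
        obtain ⟨y', hy', rfl⟩ := hWsurj y hy
        have h1 := LinearMap.congr_fun h0 ⟨y', hy'⟩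
        rw [hBδ, LinearMap.zero_apply] at h1
        rw [hsubr, hBx, hsymm y' (x *ᵥ a), hsymm (x *ᵥ y') a]
        exact h1
      have h3 : x *ᵥ (T a) + T a = 0 := by
        rw [hTapp, Matrix.mulVec_sub]
        rw [sub_eq_zero] at hz
        rw [hz]; abel
      exact hx1 _ h3
    · rintro ⟨hy, h0⟩
      refine ⟨y, hy, ?_, rfl⟩
      have hxy : x *ᵥ y = y := by
        rw [hTapp] at h0
        exact sub_eq_zero.mp h0
      refine LinearMap.ext fun v => ?_
      rw [hBδ, LinearMap.zero_apply]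
      show QuadraticMap.polar Q (x *ᵥ y) (v : ι → F) - QuadraticMap.polar Q y (x *ᵥ (v : ι → F)) = 0
      rw [hxy]
      nth_rewrite 1 [← hBx y (v : ι → F)]
      rw [hxy, sub_self]
  have e6 : Module.finrank F ↥(LinearMap.ker Bδ) = Module.finrank F ↥(W ⊓ LinearMap.ker T) := by
    rw [← e5, Submodule.finrank_map_subtype_eq]
  rw [e6] at hk
  refine ⟨Module.finrank F ↥((W.map T).map T), k, e4, ?_⟩
  omega

end main

end Cfsg.Agent.Lib.Helper94.OPar
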