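import Mathlib
import Cfsg.Agent.Lib.Helper70.OPar.Defs
import Cfsg.Agent.Lib.Helper94.OPar.UniLin

/-!
# OPAR (S5989): package UNI1

The unipotent element `x = fromBlocks A 0 0 (A⁻¹)ᵀ`, `A = 1 + n₀`, `n₀` nilpotent of Jordan type
`(3, 2, …, 2)`, has no invariant nondegenerate `m`-space for `m ≡ 1 (mod 4)`.
-/

set_option autoImplicit false
set_option linter.style.haveILetI false
open scoped MatrixGroups
open Matrix

namespace Cfsg.Agent.Lib.Helper94.OPar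

open Cfsg.Agent.Lib.Helper23.OHyp Cfsg.Agent.Lib.Helper70.OPar

universe u

section elt

variable {F : Type u} [Field F] {d : ℕ}

/-- The nilpotent part `N = x - 1`. -/
def nMat (n₀ : Matrix (Fin d) (Fin d) F) : Matrix (Fin d ⊕ Fin d) (Fin d ⊕ Fin d) F :=
  Matrix.fromBlocks n₀ 0 0 (n₀ * n₀ - n₀)ᵀ

theorem nMat_sq (n₀ : Matrix (Fin d) (Fin d) F) (H1 : n₀ * n₀ * n₀ = 0) :
    nMat n₀ * nMat n₀ = Matrix.fromBlocks (n₀ * n₀) 0 0 (n₀ * n₀)ᵀ := by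
  have h4 : n₀ * n₀ * (n₀ * n₀) = 0 := by rw [← mul_assoc, H1, zero_mul]
  have h3 : n₀ * (n₀ * n₀) = 0 := by rw [← mul_assoc, H1]
  have hsq : (n₀ * n₀ - n₀) * (n₀ * n₀ - n₀) = n₀ * n₀ := by
    rw [sub_mul, mul_sub, mul_sub, h4, H1, h3]; simp
  unfold nMat
  rw [Matrix.fromBlocks_multiply, ← Matrix.transpose_mul, hsq]
  simp

theorem nMat_cube (n₀ : Matrix (Fin d) (Fin d) F) (H1 : n₀ * n₀ * n₀ = 0) :
    nMat n₀ * nMat n₀ * nMat n₀ = 0 := by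
  have h4 : n₀ * n₀ * (n₀ * n₀) = 0 := by rw [← mul_assoc, H1, zero_mul]
  have h5 : (n₀ * n₀ - n₀) * (n₀ * n₀) = 0 := by
    rw [sub_mul, h4, ← mul_assoc, H1]; simp
  rw [nMat_sq n₀ H1]
  unfold nMat
  rw [Matrix.fromBlocks_multiply, ← Matrix.transpose_mul, h5, H1]
  simp

theorem quadFormPlus_elim (v₁ v₂ : Fin d → F) :
    Cfsg.quadFormPlus d F (Sum.elim v₁ v₂) = v₁ ⬝ᵥ v₂ := by
  simp [Cfsg.quadFormPlus, dotProduct]

theorem one_add_nMat (n₀ : Matrix (Fin d) (Fin d) F) :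
    1 + nMat n₀ = Matrix.fromBlocks (1 + n₀) 0 0 (1 - n₀ + n₀ * n₀)ᵀ := by
  unfold nMat
  rw [← Matrix.fromBlocks_one, Matrix.fromBlocks_add]
  congr 1
  · simp
  · simp
  · simp only [Matrix.transpose_add, Matrix.transpose_sub, Matrix.transpose_one]
    abel

theorem nMat_isom (n₀ : Matrix (Fin d) (Fin d) F) (H1 : n₀ * n₀ * n₀ = 0)
    (v : Fin d ⊕ Fin d → F) :
    Cfsg.quadFormPlus d F ((1 + nMat n₀) *ᵥ v) = Cfsg.quadFormPlus d F v := by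
  have hinv : (1 - n₀ + n₀ * n₀) * (1 + n₀) = 1 := by
    have : (1 - n₀ + n₀ * n₀) * (1 + n₀) = 1 + n₀ * n₀ * n₀ := by noncomm_ring
    rw [this, H1, add_zero]
  obtain ⟨v₁, v₂, rfl⟩ : ∃ v₁ v₂ : Fin d → F, v = Sum.elim v₁ v₂ :=
    ⟨v ∘ Sum.inl, v ∘ Sum.inr, (Sum.elim_comp_inl_inr v).symm⟩
  rw [one_add_nMat, Matrix.fromBlocks_mulVec, quadFormPlus_elim, quadFormPlus_elim]
  simp only [Matrix.zero_mulVec, add_zero, zero_add, Sum.elim_comp_inl, Sum.elim_comp_inr]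
  rw [Matrix.dotProduct_mulVec, Matrix.vecMul_transpose, Matrix.mulVec_mulVec, hinv,
    Matrix.one_mulVec]

theorem nMat_ker (n₀ : Matrix (Fin d) (Fin d) F) (H1 : n₀ * n₀ * n₀ = 0)
    (H2 : (1 - n₀ * n₀ᵀ) * (1 - n₀ᵀ * n₀) = 0) (v : Fin d ⊕ Fin d → F)
    (hv : nMat n₀ *ᵥ v = 0) : ∃ u, nMat n₀ *ᵥ u = v := by
  obtain ⟨v₁, v₂, rfl⟩ : ∃ v₁ v₂ : Fin d → F, v = Sum.elim v₁ v₂ :=
    ⟨v ∘ Sum.inl, v ∘ Sum.inr, (Sum.elim_comp_inl_inr v).symm⟩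
  unfold nMat at hv ⊢
  rw [Matrix.fromBlocks_mulVec] at hv
  simp only [Matrix.zero_mulVec, add_zero, zero_add, Sum.elim_comp_inl, Sum.elim_comp_inr] at hv
  have hv₁ : n₀ *ᵥ v₁ = 0 := by
    funext i
    have := congrFun hv (Sum.inl i)
    simpa using this
  have hv₂ : (n₀ * n₀ - n₀)ᵀ *ᵥ v₂ = 0 := by
    funext i
    have := congrFun hv (Sum.inr i)
    simpa using this
  -- first block
  have ha : n₀ *ᵥ (n₀ᵀ *ᵥ v₁) = v₁ := by
    have h : ((1 - n₀ * n₀ᵀ) * (1 - n₀ᵀ * n₀)) *ᵥ v₁ = 0 := by rw [H2, Matrix.zero_mulVec]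
    rw [← Matrix.mulVec_mulVec, Matrix.sub_mulVec (1 : Matrix (Fin d) (Fin d) F) (n₀ᵀ * n₀),
      ← Matrix.mulVec_mulVec, hv₁, Matrix.mulVec_zero, sub_zero, Matrix.one_mulVec,
      Matrix.sub_mulVec, Matrix.one_mulVec, ← Matrix.mulVec_mulVec] at h
    exact (sub_eq_zero.mp h).symm
  -- second block
  have hT1 : n₀ᵀ * n₀ᵀ * n₀ᵀ = 0 := by
    rw [← Matrix.transpose_mul, ← Matrix.transpose_mul, ← mul_assoc, H1, Matrix.transpose_zero]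
  have hb1 : n₀ᵀ *ᵥ (n₀ᵀ *ᵥ v₂) = n₀ᵀ *ᵥ v₂ := by
    rw [Matrix.transpose_sub, Matrix.transpose_mul, Matrix.sub_mulVec,
      ← Matrix.mulVec_mulVec] at hv₂
    exact sub_eq_zero.mp hv₂
  have hb : n₀ᵀ *ᵥ v₂ = 0 := by
    calc n₀ᵀ *ᵥ v₂ = n₀ᵀ *ᵥ (n₀ᵀ *ᵥ v₂) := hb1.symm
      _ = n₀ᵀ *ᵥ (n₀ᵀ *ᵥ (n₀ᵀ *ᵥ v₂)) := congrArg (fun w => n₀ᵀ *ᵥ w) hb1.symm
      _ = (n₀ᵀ * n₀ᵀ * n₀ᵀ) *ᵥ v₂ := by
        rw [Matrix.mulVec_mulVec, Matrix.mulVec_mulVec, mul_assoc]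
      _ = 0 := by rw [hT1, Matrix.zero_mulVec]
  have H2' : (1 - n₀ᵀ * n₀) * (1 - n₀ * n₀ᵀ) = 0 := by
    have := congrArg Matrix.transpose H2
    simpa [Matrix.transpose_mul, Matrix.transpose_sub] using this
  have hc : n₀ᵀ *ᵥ (n₀ *ᵥ v₂) = v₂ := by
    have h : ((1 - n₀ᵀ * n₀) * (1 - n₀ * n₀ᵀ)) *ᵥ v₂ = 0 := by rw [H2', Matrix.zero_mulVec]
    rw [← Matrix.mulVec_mulVec, Matrix.sub_mulVec (1 : Matrix (Fin d) (Fin d) F) (n₀ * n₀ᵀ),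
      ← Matrix.mulVec_mulVec, hb, Matrix.mulVec_zero, sub_zero, Matrix.one_mulVec,
      Matrix.sub_mulVec, Matrix.one_mulVec, ← Matrix.mulVec_mulVec] at h
    exact (sub_eq_zero.mp h).symm
  have hd : (n₀ * n₀ - n₀)ᵀ * (-(1 + n₀ᵀ)) = n₀ᵀ := by
    rw [Matrix.transpose_sub, Matrix.transpose_mul]
    have : (n₀ᵀ * n₀ᵀ - n₀ᵀ) * (-(1 + n₀ᵀ)) = n₀ᵀ - n₀ᵀ * n₀ᵀ * n₀ᵀ := by noncomm_ring
    rw [this, hT1, sub_zero]
  refine ⟨Sum.elim (n₀ᵀ *ᵥ v₁) ((-(1 + n₀ᵀ)) *ᵥ (n₀ *ᵥ v₂)), ?_⟩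
  rw [Matrix.fromBlocks_mulVec]
  simp only [Matrix.zero_mulVec, add_zero, zero_add, Sum.elim_comp_inl, Sum.elim_comp_inr]
  rw [ha, Matrix.mulVec_mulVec _ ((n₀ * n₀ - n₀)ᵀ), hd, hc]

theorem nMat_sq_mem (n₀ : Matrix (Fin d) (Fin d) F) (H1 : n₀ * n₀ * n₀ = 0)
    (a b : Fin d → F) (H3 : n₀ * n₀ = Matrix.vecMulVec a b) (v : Fin d ⊕ Fin d → F) :
    nMat n₀ *ᵥ (nMat n₀ *ᵥ v) ∈
      Submodule.span F (Set.range ![(Sum.elim a 0 : Fin d ⊕ Fin d → F), Sum.elim 0 b]) := by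
  obtain ⟨v₁, v₂, rfl⟩ : ∃ v₁ v₂ : Fin d → F, v = Sum.elim v₁ v₂ :=
    ⟨v ∘ Sum.inl, v ∘ Sum.inr, (Sum.elim_comp_inl_inr v).symm⟩
  rw [Matrix.mulVec_mulVec, nMat_sq n₀ H1, H3, Matrix.transpose_vecMulVec,
    Matrix.fromBlocks_mulVec]
  simp only [Matrix.zero_mulVec, add_zero, zero_add, Matrix.vecMulVec_mulVec, Sum.elim_comp_inl,
    Sum.elim_comp_inr]
  have : (Sum.elim (MulOpposite.op (b ⬝ᵥ v₁) • a)
      (MulOpposite.op (a ⬝ᵥ v₂) • b) : Fin d ⊕ Fin d → F) =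
      (b ⬝ᵥ v₁) • (Sum.elim a 0 : Fin d ⊕ Fin d → F) +
        (a ⬝ᵥ v₂) • (Sum.elim 0 b : Fin d ⊕ Fin d → F) := by
    funext i
    rcases i with i | i <;> simp [mul_comm]
  rw [this]
  exact Submodule.add_mem _ (Submodule.smul_mem _ _ (Submodule.subset_span ⟨0, rfl⟩))
    (Submodule.smul_mem _ _ (Submodule.subset_span ⟨1, rfl⟩))

end elt

section group

variable {F : Type u} [Field F]

theorem two_ne_zero_of_charP (p : ℕ) [Fact p.Prime] [CharP F p] (hp2 : p ≠ 2) : (2 : F) ≠ 0 := by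
  have hp : p.Prime := Fact.out
  intro h
  have h' : ((2 : ℕ) : F) = 0 := by exact_mod_cast h
  have h3 := (CharP.cast_eq_zero_iff F p 2).mp h'
  exact hp2 ((Nat.prime_dvd_prime_iff_eq hp Nat.prime_two).mp h3)

/-- The unipotent element `1 + N` of `Ω⁺`. -/
theorem uni_elt [Fintype F] (p : ℕ) [Fact p.Prime] [CharP F p] (hp2 : p ≠ 2) (d : ℕ) (hd : 1 ≤ d)
    (hPlus : PkgPlusQ.{u}) (hOdd : PkgOddOmega.{u})
    (n₀ : Matrix (Fin d) (Fin d) F) (H1 : n₀ * n₀ * n₀ = 0) (H4 : n₀ ≠ 0) :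
    ∃ x : GL (Fin d ⊕ Fin d) F, x ∈ Cfsg.Geo.omegaGL (Cfsg.quadFormPlus d F) ∧ x ^ p = 1 ∧
      x ≠ 1 ∧ (x : Matrix (Fin d ⊕ Fin d) (Fin d ⊕ Fin d) F) = 1 + nMat n₀ := by
  have hp : p.Prime := Fact.out
  have h2 : (2 : F) ≠ 0 := two_ne_zero_of_charP p hp2
  set N := nMat n₀ with hN
  have hN3 : N * N * N = 0 := nMat_cube n₀ H1
  have h1 : (1 + N) * (1 - N + N * N) = 1 := by
    have : (1 + N) * (1 - N + N * N) = 1 + N * N * N := by noncomm_ring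
    rw [this, hN3, add_zero]
  have h1' : (1 - N + N * N) * (1 + N) = 1 := by
    have : (1 - N + N * N) * (1 + N) = 1 + N * N * N := by noncomm_ring
    rw [this, hN3, add_zero]
  let x : GL (Fin d ⊕ Fin d) F := ⟨1 + N, 1 - N + N * N, h1, h1'⟩
  have hxcoe : (x : Matrix (Fin d ⊕ Fin d) (Fin d ⊕ Fin d) F) = 1 + N := rfl
  haveI : Nonempty (Fin d ⊕ Fin d) := ⟨Sum.inl ⟨0, hd⟩⟩
  have hxp : x ^ p = 1 := by
    apply Units.ext
    rw [Units.val_pow_eq_pow_val, hxcoe, Units.val_one,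
      add_pow_char_of_commute _ (Commute.one_left N), one_pow]
    have hp3 : 3 ≤ p := by have := hp.two_le; omega
    have hNp : N ^ p = 0 := by
      have e : p = 3 + (p - 3) := by omega
      rw [e, pow_add, pow_three, ← mul_assoc, hN3, zero_mul]
    rw [hNp, add_zero]
  have hisom : ∀ v, Cfsg.quadFormPlus d F
      ((x : Matrix (Fin d ⊕ Fin d) (Fin d ⊕ Fin d) F) *ᵥ v) = Cfsg.quadFormPlus d F v := by
    intro v; rw [hxcoe]; exact nMat_isom n₀ H1 v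
  have hmem : x ∈ Cfsg.isometryGroup F (Cfsg.quadFormPlus d F) := fun u _ => hisom u
  have hodd : Odd (orderOf x) := by
    have hdvd := orderOf_dvd_of_pow_eq_one hxp
    rcases (Nat.dvd_prime hp).mp hdvd with h | h
    · rw [h]; exact odd_one
    · rw [h]; exact hp.odd_of_ne_two hp2
  refine ⟨x, hOdd F (Fin d ⊕ Fin d) (Cfsg.quadFormPlus d F) (hPlus F h2 d).1 h2 x hmem hodd,
    hxp, ?_, hxcoe⟩
  intro hx1
  apply H4
  have h := congrArg Units.val hx1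
  rw [hxcoe, Units.val_one] at h
  have hN0 : N = 0 := by simpa using h
  ext i j
  have := congrFun (congrFun hN0 (Sum.inl i)) (Sum.inl j)
  simpa [hN, nMat] using this

end group

section n0

variable (F : Type u) [Field F]

/-- The nilpotent Jordan block of size 3. -/
def J3 : Matrix (Fin 3) (Fin 3) F := !![0, 1, 0; 0, 0, 1; 0, 0, 0]

/-- The nilpotent Jordan block of size 2. -/
def J2 : Matrix (Fin 2) (Fin 2) F := !![0, 1; 0, 0]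

theorem J3_cube : J3 F * J3 F * J3 F = 0 := by
  ext i j
  fin_cases i <;> fin_cases j <;> simp [J3, Matrix.mul_apply, Fin.sum_univ_three]

theorem J3_sq : J3 F * J3 F = Matrix.vecMulVec ![1, 0, 0] ![0, 0, 1] := by
  ext i j
  fin_cases i <;> fin_cases j <;>
    simp [J3, Matrix.mul_apply, Fin.sum_univ_three, Matrix.vecMulVec_apply]

theorem J3_H2 : (1 - J3 F * (J3 F)ᵀ) * (1 - (J3 F)ᵀ * J3 F) = 0 := by
  ext i j
  fin_cases i <;> fin_cases j <;>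
    simp [J3, Matrix.mul_apply, Fin.sum_univ_three, Matrix.one_apply, Matrix.transpose_apply,
      Matrix.vecMul, dotProduct]

theorem J2_sq : J2 F * J2 F = 0 := by
  ext i j
  fin_cases i <;> fin_cases j <;> simp [J2, Matrix.mul_apply, Fin.sum_univ_two]

theorem J2_H2 : (1 - J2 F * (J2 F)ᵀ) * (1 - (J2 F)ᵀ * J2 F) = 0 := by
  ext i j
  fin_cases i <;> fin_cases j <;>
    simp [J2, Matrix.mul_apply, Fin.sum_univ_two, Matrix.one_apply, Matrix.transpose_apply,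
      Matrix.vecMul, dotProduct]

variable {F}

theorem bd_const_mul (e : ℕ) (A B : Matrix (Fin 2) (Fin 2) F) :
    Matrix.blockDiagonal (fun _ : Fin e => A) * Matrix.blockDiagonal (fun _ : Fin e => B) =
      Matrix.blockDiagonal (fun _ : Fin e => A * B) :=
  (Matrix.blockDiagonal_mul _ _).symm

theorem bd_const_one (e : ℕ) :
    (1 : Matrix (Fin 2 × Fin e) (Fin 2 × Fin e) F) =
      Matrix.blockDiagonal (fun _ : Fin e => (1 : Matrix (Fin 2) (Fin 2) F)) :=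
  Matrix.blockDiagonal_one.symm

theorem bd_const_sub (e : ℕ) (A B : Matrix (Fin 2) (Fin 2) F) :
    Matrix.blockDiagonal (fun _ : Fin e => A) - Matrix.blockDiagonal (fun _ : Fin e => B) =
      Matrix.blockDiagonal (fun _ : Fin e => A - B) :=
  (Matrix.blockDiagonal_sub _ _).symm

theorem bd_const_zero (e : ℕ) :
    Matrix.blockDiagonal (fun _ : Fin e => (0 : Matrix (Fin 2) (Fin 2) F)) = 0 :=
  Matrix.blockDiagonal_zero

theorem fb_H2 {m n : Type} [Fintype m] [Fintype n] [DecidableEq m] [DecidableEq n]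
    (A : Matrix m m F) (D : Matrix n n F) (hA : (1 - A * Aᵀ) * (1 - Aᵀ * A) = 0)
    (hD : (1 - D * Dᵀ) * (1 - Dᵀ * D) = 0) :
    (1 - Matrix.fromBlocks A 0 0 D * (Matrix.fromBlocks A 0 0 D)ᵀ) *
      (1 - (Matrix.fromBlocks A 0 0 D)ᵀ * Matrix.fromBlocks A 0 0 D) = 0 := by
  have e1 : (1 : Matrix (m ⊕ n) (m ⊕ n) F) -
      Matrix.fromBlocks A 0 0 D * (Matrix.fromBlocks A 0 0 D)ᵀ =
      Matrix.fromBlocks (1 - A * Aᵀ) 0 0 (1 - D * Dᵀ) := by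
    rw [Matrix.fromBlocks_transpose, Matrix.fromBlocks_multiply, ← Matrix.fromBlocks_one]
    ext (i | i) (j | j) <;> simp [Matrix.one_apply]
  have e2 : (1 : Matrix (m ⊕ n) (m ⊕ n) F) -
      (Matrix.fromBlocks A 0 0 D)ᵀ * Matrix.fromBlocks A 0 0 D =
      Matrix.fromBlocks (1 - Aᵀ * A) 0 0 (1 - Dᵀ * D) := by
    rw [Matrix.fromBlocks_transpose, Matrix.fromBlocks_multiply, ← Matrix.fromBlocks_one]
    ext (i | i) (j | j) <;> simp [Matrix.one_apply]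
  rw [e1, e2, Matrix.fromBlocks_multiply, hA, hD]
  simp

variable (F)

/-- A nilpotent matrix of Jordan type `(3, 2, …, 2)` in odd dimension `d ≥ 3`. -/
theorem exists_n0 (d : ℕ) (hd : Odd d) (h3 : 3 ≤ d) :
    ∃ (n₀ : Matrix (Fin d) (Fin d) F) (a b : Fin d → F), n₀ * n₀ * n₀ = 0 ∧
      (1 - n₀ * n₀ᵀ) * (1 - n₀ᵀ * n₀) = 0 ∧ n₀ ≠ 0 ∧ n₀ * n₀ = Matrix.vecMulVec a b := by
  classical
  obtain ⟨e, he⟩ : ∃ e, d = 2 * e + 3 := by
    obtain ⟨k, hk⟩ := hd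
    exact ⟨k - 1, by omega⟩
  have hcard : Fintype.card (Fin 3 ⊕ (Fin 2 × Fin e)) = d := by
    simp only [Fintype.card_sum, Fintype.card_prod, Fintype.card_fin]
    omega
  let ε : Fin 3 ⊕ (Fin 2 × Fin e) ≃ Fin d := Fintype.equivFinOfCardEq hcard
  set K : Matrix (Fin 2 × Fin e) (Fin 2 × Fin e) F :=
    Matrix.blockDiagonal (fun _ : Fin e => J2 F) with hK
  have hKK : K * K = 0 := by
    rw [hK, bd_const_mul, J2_sq, bd_const_zero]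
  have hK2 : (1 - K * Kᵀ) * (1 - Kᵀ * K) = 0 := by
    rw [hK, Matrix.blockDiagonal_transpose, bd_const_mul, bd_const_mul, bd_const_one,
      bd_const_sub, bd_const_sub, bd_const_mul, J2_H2, bd_const_zero]
  set M : Matrix (Fin 3 ⊕ (Fin 2 × Fin e)) (Fin 3 ⊕ (Fin 2 × Fin e)) F :=
    Matrix.fromBlocks (J3 F) 0 0 K with hM
  have hMM : M * M = Matrix.fromBlocks (J3 F * J3 F) 0 0 0 := by
    rw [hM, Matrix.fromBlocks_multiply, hKK]
    simp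
  have hMMM : M * M * M = 0 := by
    rw [hMM, hM, Matrix.fromBlocks_multiply, J3_cube]
    simp
  have hM2 : (1 - M * Mᵀ) * (1 - Mᵀ * M) = 0 := fb_H2 (J3 F) K (J3_H2 F) hK2
  have hMne : M ≠ 0 := by
    intro h
    have := congrFun (congrFun h (Sum.inl 0)) (Sum.inl 1)
    simp [hM, J3] at this
  set φ := Matrix.reindexAlgEquiv F F ε with hφ
  have hT : (φ M)ᵀ = φ Mᵀ := by
    rw [hφ, Matrix.coe_reindexAlgEquiv, Matrix.transpose_reindex]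
  refine ⟨φ M, (Sum.elim ![1, 0, 0] 0 : Fin 3 ⊕ (Fin 2 × Fin e) → F) ∘ ε.symm,
    (Sum.elim ![0, 0, 1] 0 : Fin 3 ⊕ (Fin 2 × Fin e) → F) ∘ ε.symm, ?_, ?_, ?_, ?_⟩
  · rw [← map_mul, ← map_mul, hMMM, map_zero]
  · rw [hT, ← map_mul, ← map_mul, ← map_one φ, ← map_sub, ← map_sub, ← map_mul, hM2, map_zero]
  · intro h
    exact hMne ((map_eq_zero_iff φ φ.injective).mp h)
  · rw [← map_mul, hMM, J3_sq]
    have e1 : (Matrix.fromBlocks (Matrix.vecMulVec ![1, 0, 0] ![0, 0, 1]) 0 0 0 :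
        Matrix (Fin 3 ⊕ (Fin 2 × Fin e)) (Fin 3 ⊕ (Fin 2 × Fin e)) F) =
        Matrix.vecMulVec (Sum.elim ![1, 0, 0] 0) (Sum.elim ![0, 0, 1] 0) := by
      ext (i | i) (j | j)
      · simp only [Matrix.fromBlocks_apply₁₁, Matrix.vecMulVec_apply, Sum.elim_inl]
      · simp [Matrix.vecMulVec_apply]
      · simp [Matrix.vecMulVec_apply]
      · simp [Matrix.vecMulVec_apply]
    rw [e1]
    ext i j
    rw [hφ, Matrix.coe_reindexAlgEquiv, Matrix.reindex_apply, Matrix.submatrix_apply,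
      Matrix.vecMulVec_apply, Matrix.vecMulVec_apply]
    rfl

end n0

/-- Package UNI1. -/
theorem pkgUni1_of (hPlus : PkgPlusQ.{u}) (hOdd : PkgOddOmega.{u}) (hPerp : PkgPerp.{u}) :
    PkgUni1.{u} := by
  intro F _ _ p _ _ hp2 d m hd4 hmodd hmd hdodd hm4
  have hp : p.Prime := Fact.out
  have h2 : (2 : F) ≠ 0 := two_ne_zero_of_charP p hp2
  obtain ⟨n₀, a, b, H1, H2, H4, H3⟩ := exists_n0 F d hdodd (by omega)
  obtain ⟨x, hxΩ, hxp, hx1, hxcoe⟩ := uni_elt p hp2 d (by omega) hPlus hOdd n₀ H1 H4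
  refine ⟨x, hxΩ, hxp, hx1, ?_⟩
  intro W hWm hNd hInv
  have hsub : (x : Matrix (Fin d ⊕ Fin d) (Fin d ⊕ Fin d) F) - 1 = nMat n₀ := by
    rw [hxcoe]; simp
  have hxpm : (x : Matrix (Fin d ⊕ Fin d) (Fin d ⊕ Fin d) F) ^ p = 1 := by
    rw [← Units.val_pow_eq_pow_val, hxp, Units.val_one]
  obtain ⟨s, k, hs, hk⟩ := uni_mod_four (Cfsg.quadFormPlus d F) (hPlus F h2 d).1 h2 hPerp
    (x : Matrix (Fin d ⊕ Fin d) (Fin d ⊕ Fin d) F)
    (fun v => by rw [hxcoe]; exact nMat_isom n₀ H1 v)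
    ((Matrix.isUnit_iff_isUnit_det _).mp x.isUnit) p (hp.odd_of_ne_two hp2) hxpm
    (fun v hv => by rw [hsub] at hv ⊢; exact nMat_ker n₀ H1 H2 v hv)
    (Submodule.span F (Set.range ![(Sum.elim a 0 : Fin d ⊕ Fin d → F), Sum.elim 0 b]))
    (fun v => by rw [hsub]; exact nMat_sq_mem n₀ H1 a b H3 v) W hInv hNd
  have hfin : Module.finrank F ↥(Submodule.span F
      (Set.range ![(Sum.elim a 0 : Fin d ⊕ Fin d → F), Sum.elim 0 b])) ≤ 2 := by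
    have := finrank_range_le_card (R := F) ![(Sum.elim a 0 : Fin d ⊕ Fin d → F), Sum.elim 0 b]
    simpa [Set.finrank] using this
  rw [hWm] at hk
  omega

end Cfsg.Agent.Lib.Helper94.OPar
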